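import Groth.Agent.Lib.AmpleDimOne.Main
import Groth.Agent.Lib.MorQ9.Generic

/-!
# Functions with poles at given points of height one

`exists_pole_fun`: for an affine open `V` containing the generic points of a separated Noetherian
scheme, and finitely many points outside `V` with local rings of dimension at most one, a function on
`V` which near each of the points is the inverse of an equation of the complement of `V`, and which
avoids finitely many given primes.
-/

set_option autoImplicit false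
set_option linter.style.haveILetI false
set_option backward.isDefEq.respectTransparency false
set_option maxHeartbeats 1600000

universe u

open CategoryTheory CategoryTheory.Limits AlgebraicGeometry TopologicalSpace Opposite
open GrothLib.Ample (res)
open GrothLib.AmpleDimOne (Branches nonempty_branches exists_pole not_forall_mem)

noncomputable section

namespace GrothLib.FinAff13

variable {X : Scheme.{u}}

/-- No chain of length two of generisations of a point of height at most one. -/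
theorem eq_of_chain {a b y : X} (hy : ringKrullDim (X.presheaf.stalk y) ≤ 1) (h1 : a ⤳ b) (h2 : b ⤳ y)
    (hab : a ≠ b) : b = y := by
  obtain ⟨a₀, ha'⟩ := (X.range_fromSpecStalk (x := y)).ge (h1.trans h2)
  obtain ⟨b₀, hb'⟩ := (X.range_fromSpecStalk (x := y)).ge h2
  let a' : PrimeSpectrum (X.presheaf.stalk y) := a₀
  let b' : PrimeSpectrum (X.presheaf.stalk y) := b₀
  have hemb := (X.fromSpecStalk y).isEmbedding
  have hlt : a' < b' := by
    refine lt_of_le_of_ne ((PrimeSpectrum.le_iff_specializes _ _).2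
      (hemb.isInducing.specializes_iff.1 (by rw [ha', hb']; exact h1))) fun h => hab ?_
    rw [← ha', ← hb']
    exact congrArg _ h
  rcases Order.krullDim_le_one_iff.1 hy b' with h | h
  · exact absurd (h hlt.le) (not_le_of_gt hlt)
  · have hle : b' ≤ (IsLocalRing.closedPoint (X.presheaf.stalk y) : PrimeSpectrum (X.presheaf.stalk y)) :=
      fun z hz => IsLocalRing.le_maximalIdeal b'.isPrime.ne_top hz
    rw [← hb', show b₀ = IsLocalRing.closedPoint (X.presheaf.stalk y) from le_antisymm (α := PrimeSpectrum _) hle (h hle)]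
    exact Scheme.fromSpecStalk_closedPoint

theorem mem_genericPoints_iff {v : X} : v ∈ genericPoints (X : Type u) ↔ ∀ x : X, x ⤳ v → x = v := by
  refine ⟨fun h x hx => GrothLib.MorQ9.eq_of_specializes_generic h hx, fun h => ?_⟩
  refine ⟨isIrreducible_singleton.closure, fun s hs hle => ?_⟩
  obtain ⟨η, hη⟩ := QuasiSober.sober hs.closure isClosed_closure
  have hv : η ⤳ v := specializes_iff_mem_closure.2 (hη.def.symm ▸ subset_closure (hle (subset_closure rfl)))
  rw [← h η hv, hη.def]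
  exact subset_closure

theorem specializes_cases {z y : X} (hy : ringKrullDim (X.presheaf.stalk y) ≤ 1) (h : z ⤳ y) :
    z = y ∨ z ∈ genericPoints (X : Type u) :=
  or_iff_not_imp_left.2 fun hne => mem_genericPoints_iff.2 fun a ha => by
    by_contra hne'
    exact hne (eq_of_chain hy ha h hne')

variable [IsNoetherian X]

theorem exists_open_inter_subset_closure {C : Set X} (hC : IsClosed C) {y : X}
    (h : ∀ z ∈ C, z ⤳ y → z = y) : ∃ O : X.Opens, y ∈ O ∧ C ∩ O ⊆ closure {y} := by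
  classical
  obtain ⟨S, hS, hScl, hSirr, hcov⟩ := NoetherianSpace.exists_finite_set_isClosed_irreducible hC
  let D : Set X := ⋃ C' ∈ {C' ∈ S | y ∉ C'}, C'
  have hD : IsClosed D := (hS.subset fun _ h => h.1).isClosed_biUnion fun C' hC' => hScl C' hC'.1
  refine ⟨⟨Dᶜ, hD.isOpen_compl⟩, fun hy => ?_, fun z hz => ?_⟩
  · obtain ⟨C', hC', hyC'⟩ := Set.mem_iUnion₂.1 hy
    exact hC'.2 hyC'
  · obtain ⟨C', hC'S, hzC'⟩ := (hcov ▸ hz.1 : z ∈ ⋃₀ S)
    have hyC' : y ∈ C' := by
      by_contra hy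
      exact hz.2 (Set.mem_biUnion ⟨hC'S, hy⟩ hzC')
    obtain ⟨η, hη⟩ := QuasiSober.sober (hSirr C' hC'S) (hScl C' hC'S)
    rw [h η (hcov.ge (Set.mem_sUnion_of_mem hη.mem hC'S)) (hη.specializes hyC')] at hη
    exact hη.def.ge hzC'

variable {V : X.Opens} (hG : genericPoints (X : Type u) ⊆ V)
include hG

/-- A local equation of the complement of `V` at a point of height at most one outside `V`. -/
theorem exists_local_equation {y : X} (hy : ringKrullDim (X.presheaf.stalk y) ≤ 1) (hyV : y ∉ V)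
    {O : X.Opens} (hyO : y ∈ O) :
    ∃ (U : X.Opens) (hU : IsAffineOpen U) (f : Γ(X, U)) (hyU : y ∈ U), U ≤ O ∧
      (U : Set X) \ V ⊆ closure {y} ∧ (X.basicOpen f : Set X) = (U : Set X) ∩ V ∧
      f ∈ (hU.primeIdealOf ⟨y, hyU⟩).asIdeal ∧
      (∀ p : Ideal Γ(X, U), p.IsPrime → p ≤ (hU.primeIdealOf ⟨y, hyU⟩).asIdeal → f ∈ p →
        p = (hU.primeIdealOf ⟨y, hyU⟩).asIdeal) ∧
      ∀ p q : Ideal Γ(X, U), p.IsPrime → q.IsPrime → p < q →
        q < (hU.primeIdealOf ⟨y, hyU⟩).asIdeal → False := by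
  classical
  obtain ⟨W, hW, hyW, hWO⟩ := exists_isAffineOpen_mem_and_subset hyO
  have hgfin : (genericPoints (X : Type u)).Finite :=
    genericPoints.finite NoetherianSpace.finite_irreducibleComponents
  have hne : ∀ η ∈ genericPoints (X : Type u), η ≠ y := fun η hη h => hyV (h ▸ hG hη)
  let G : Set W := {η | η.1 ∈ genericPoints (X : Type u) ∧ η.1 ⤳ y}
  have hGfin : G.Finite := (hgfin.preimage Subtype.val_injective.injOn).subset fun η h => h.1
  let p₀ := hW.primeIdealOf ⟨y, hyW⟩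
  have hnle : ¬ (p₀.asIdeal : Set Γ(X, W)) ⊆ ⋃ η ∈ G, ((hW.primeIdealOf η).asIdeal : Set Γ(X, W)) := by
    rw [Ideal.subset_union_prime_finite hGfin ⟨y, hyW⟩ ⟨y, hyW⟩ fun η _ _ _ => (hW.primeIdealOf η).isPrime]
    rintro ⟨η, hη, hle⟩
    have hs := ((PrimeSpectrum.le_iff_specializes _ _).1 hle).map hW.fromSpec.continuous
    rw [hW.fromSpec_primeIdealOf, hW.fromSpec_primeIdealOf] at hs
    exact hne η.1 hη.1 (hη.2.antisymm hs).eq
  obtain ⟨f, hfp, hfη⟩ := Set.not_subset.1 hnle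
  simp only [Set.mem_iUnion₂, not_exists] at hfη
  have hmem : ∀ z : W, z.1 ∈ X.basicOpen f ↔ f ∉ (hW.primeIdealOf z).asIdeal := fun z => by
    conv_lhs => rw [← hW.fromSpec_primeIdealOf z, ← Scheme.Hom.mem_preimage, hW.fromSpec_preimage_basicOpen f]
    exact PrimeSpectrum.mem_basicOpen f _
  let C : Set X := (X.basicOpen f : Set X)ᶜ ∪ (V : Set X)ᶜ
  have hC : IsClosed C := (X.basicOpen f).2.isClosed_compl.union V.2.isClosed_compl
  obtain ⟨O', hyO', hO'⟩ := exists_open_inter_subset_closure hC (y := y) fun z hz hzy => by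
    refine (specializes_cases hy hzy).resolve_right fun hzg => ?_
    rcases hz with hz | hz
    · exact hz ((hmem ⟨z, hzy.mem_open W.2 hyW⟩).2 (hfη ⟨z, hzy.mem_open W.2 hyW⟩ ⟨hzg, hzy⟩))
    · exact hz (hG hzg)
  obtain ⟨U, hU, hyU, hUle⟩ := exists_isAffineOpen_mem_and_subset (x := y) (U := W ⊓ O') ⟨hyW, hyO'⟩
  have hUW : U ≤ W := fun z hz => (hUle hz).1
  have hcl : ∀ z ∈ U, z ∉ X.basicOpen f ∨ z ∉ V → z ∈ closure ({y} : Set X) := fun z hz h =>
    hO' ⟨h, (hUle hz).2⟩
  have hyf : y ∉ X.basicOpen f := fun h => (hmem ⟨y, hyW⟩).1 h hfp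
  have hVy : ∀ z, z ∈ closure ({y} : Set X) → z ∉ V ∧ z ∉ X.basicOpen f := fun z hz =>
    ⟨fun h => hyV ((specializes_iff_mem_closure.2 hz).mem_open V.2 h),
      fun h => hyf ((specializes_iff_mem_closure.2 hz).mem_open (X.basicOpen f).2 h)⟩
  have hbasic : (X.basicOpen (res hUW f) : Set X) = (U : Set X) ∩ V := by
    show (X.basicOpen (X.presheaf.map (homOfLE hUW).op f) : Set X) = _
    rw [Scheme.basicOpen_res]
    ext z
    refine ⟨fun hz => ⟨hz.1, by_contra fun h => (hVy z (hcl z hz.1 (Or.inr h))).2 hz.2⟩,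
      fun hz => ⟨hz.1, by_contra fun h => (hVy z (hcl z hz.1 (Or.inl h))).1 hz.2⟩⟩
  have hpre : ∀ p, hU.fromSpec p ∈ X.basicOpen (res hUW f) ↔ res hUW f ∉ p.asIdeal := fun p => by
    rw [← Scheme.Hom.mem_preimage, hU.fromSpec_preimage_basicOpen (res hUW f)]
    exact PrimeSpectrum.mem_basicOpen _ _
  have hinj : Function.Injective hU.fromSpec := hU.fromSpec.isOpenEmbedding.injective
  have hmemU : ∀ p, hU.fromSpec p ∈ U := fun p => by
    rw [← SetLike.mem_coe, ← hU.range_fromSpec]; exact ⟨p, rfl⟩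
  have hspec : ∀ p q : PrimeSpectrum Γ(X, U), p.asIdeal ≤ q.asIdeal → hU.fromSpec p ⤳ hU.fromSpec q :=
    fun p q h => ((PrimeSpectrum.le_iff_specializes p q).mp h).map hU.fromSpec.continuous
  refine ⟨U, hU, res hUW f, hyU, fun z hz => hWO (hUW hz), fun z hz => hcl z hz.1 (Or.inr hz.2),
    hbasic, ?_, fun p hp hle hfp' => ?_, fun p q hp hq hpq hqy => ?_⟩
  · by_contra h
    have h1 := (hpre _).2 h
    rw [hU.fromSpec_primeIdealOf, ← SetLike.mem_coe, hbasic] at h1
    exact hyV h1.2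
  · have h1 : hU.fromSpec ⟨p, hp⟩ ⤳ y := by
      have := hspec ⟨p, hp⟩ _ hle
      rwa [hU.fromSpec_primeIdealOf] at this
    have h2 : hU.fromSpec ⟨p, hp⟩ ∈ closure ({y} : Set X) := by
      refine hcl _ (hmemU _) (or_iff_not_imp_left.2 fun hb hV' => ?_)
      have : hU.fromSpec ⟨p, hp⟩ ∈ (X.basicOpen (res hUW f) : Set X) := by
        rw [hbasic]; exact ⟨hmemU _, hV'⟩
      exact (hpre _).1 this hfp'
    refine congrArg PrimeSpectrum.asIdeal (hinj (a₁ := ⟨p, hp⟩) ?_)
    rw [hU.fromSpec_primeIdealOf]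
    exact (h1.antisymm (specializes_iff_mem_closure.2 h2)).eq
  · have h1 := hspec ⟨p, hp⟩ ⟨q, hq⟩ hpq.le
    have h2 : hU.fromSpec ⟨q, hq⟩ ⤳ y := by
      have := hspec ⟨q, hq⟩ _ hqy.le
      rwa [hU.fromSpec_primeIdealOf] at this
    have hne' : hU.fromSpec ⟨p, hp⟩ ≠ hU.fromSpec ⟨q, hq⟩ := fun h =>
      hpq.ne (congrArg PrimeSpectrum.asIdeal (hinj h))
    refine hqy.ne (congrArg PrimeSpectrum.asIdeal (hinj (a₁ := ⟨q, hq⟩) ?_))
    rw [eq_of_chain hy h1 h2 hne', hU.fromSpec_primeIdealOf]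

/-- A function on `V` with poles at the given points, avoiding the given primes. -/
theorem exists_pole_fun [X.IsSeparated] (hV : IsAffineOpen V) {T : Set X} (hT : T.Finite)
    (hTV : ∀ y ∈ T, y ∉ V) (hTdim : ∀ y ∈ T, ringKrullDim (X.presheaf.stalk y) ≤ 1)
    {P : Set X} (hP : P.Finite) (hPV : P ⊆ V) :
    ∃ g : Γ(X, V), P ⊆ X.basicOpen g ∧ ∀ y ∈ T, ∃ (N : X.Opens) (q : Γ(X, N)), y ∈ N ∧
      (N : Set X) \ V ⊆ closure {y} ∧ (∀ z ∈ T, z ∈ N → z = y) ∧ (X.basicOpen q : Set X) = (N : Set X) ∩ V ∧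
      res (inf_le_right : N ⊓ V ≤ V) g * res (inf_le_left : N ⊓ V ≤ N) q = 1 := by
  classical
  have hgen : ∀ y ∈ T, ∀ z : X, z ⤳ y → z ∉ V → z = y := fun y hy z hz hzV =>
    (specializes_cases (hTdim y hy) hz).resolve_right fun h => hzV (hG h)
  haveI : Finite T := hT.to_subtype
  let O : T → X.Opens := fun y =>
    ⟨(⋃ z ∈ T \ {y.1}, closure {z})ᶜ,
      ((hT.subset Set.sdiff_subset).isClosed_biUnion fun z _ => isClosed_closure).isOpen_compl⟩
  have hyO : ∀ y : T, y.1 ∈ O y := fun y h => by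
    obtain ⟨z, hz, hyz⟩ := Set.mem_iUnion₂.1 h
    exact hz.2 (hgen y.1 y.2 z (specializes_iff_mem_closure.2 hyz) (hTV z hz.1))
  choose U hU f hxU hUO hsub hbas hfp h1 h2 using
    fun y : T => exists_local_equation hG (hTdim y.1 y.2) (hTV y.1 y.2) (hyO y)
  have hfV : ∀ y, X.basicOpen (f y) ≤ V := fun y z hz => by
    have : z ∈ (X.basicOpen (f y) : Set X) := hz
    rw [hbas] at this
    exact this.2
  haveI : ∀ y, IsLocalization.Away (f y) Γ(X, X.basicOpen (f y)) :=
    fun y => (hU y).isLocalization_basicOpen (f y)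
  haveI : ∀ y, IsNoetherianRing Γ(X, U y) := fun y => IsLocallyNoetherian.component_noetherian ⟨U y, hU y⟩
  have Br := fun y => Classical.choice (nonempty_branches ((hU y).primeIdealOf ⟨y.1, hxU y⟩).asIdeal
    (f y) (hfp y) (h1 y) (h2 y) Γ(X, X.basicOpen (f y)))
  let ι := (y : T) × (Br y).ι
  haveI : ∀ y, Finite (Br y).ι := fun y => (Br y).finite
  letI : ∀ i : ι, Field ((Br i.1).K i.2) := fun i => (Br i.1).field i.2
  obtain ⟨g₀, hg₀⟩ := exists_pole (ι := ι) (K := fun i => (Br i.1).K i.2)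
    (fun i => ((Br i.1).χ i.2).comp (res (hfV i.1))) (fun i => (Br i.1).B i.2)
    (fun i => (Br i.1).oneDim i.2) (fun i => (Br i.1).semilocal i.2) fun i O' hBO hO' => by
      obtain ⟨hA, hiff⟩ := (Br i.1).centre i.2 O' hBO hO'
      exact not_forall_mem hV (hU i.1) (hxU i.1) (hTV i.1 i.1.2) (hfV i.1) ((Br i.1).χ i.2) O' hA hiff
  -- the correction at the given primes
  let π : V → PrimeSpectrum Γ(X, V) := fun z => hV.primeIdealOf z
  have hmemV : ∀ (a : Γ(X, V)) (z : V), z.1 ∈ X.basicOpen a ↔ a ∉ (π z).asIdeal := fun a z => by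
    conv_lhs => rw [← hV.fromSpec_primeIdealOf z, ← Scheme.Hom.mem_preimage, hV.fromSpec_preimage_basicOpen a]
    exact PrimeSpectrum.mem_basicOpen a _
  let P' : Set (PrimeSpectrum Γ(X, V)) := π '' (Subtype.val ⁻¹' P)
  have hP' : P'.Finite := (hP.preimage Subtype.val_injective.injOn).image _
  obtain ⟨γ, hγ⟩ : ∃ γ : Γ(X, V), ∀ k, 0 < k → ∀ p ∈ P', g₀ ^ k + γ ∉ p.asIdeal := by
    let A : Finset (PrimeSpectrum Γ(X, V)) :=
      hP'.toFinset.filter fun p => Maximal (· ∈ P') p ∧ g₀ ∈ p.asIdeal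
    let B : Finset (PrimeSpectrum Γ(X, V)) :=
      hP'.toFinset.filter fun p => Maximal (· ∈ P') p ∧ g₀ ∉ p.asIdeal
    suffices h : ∃ γ, γ ∈ B.inf PrimeSpectrum.asIdeal ∧ ∀ a ∈ A, γ ∉ a.asIdeal by
      obtain ⟨γ, hγB, hγA⟩ := h
      refine ⟨γ, fun k hk p hp hmem => ?_⟩
      obtain ⟨m, hpm, hm⟩ := hP'.exists_le_maximal hp
      have hmem' : g₀ ^ k + γ ∈ m.asIdeal := hpm hmem
      by_cases hg : g₀ ∈ m.asIdeal
      · exact hγA m (Finset.mem_filter.2 ⟨hP'.mem_toFinset.2 hm.prop, hm, hg⟩)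
          ((Ideal.add_mem_iff_right _ (Ideal.pow_mem_of_mem _ hg k hk)).1 hmem')
      · have hγm : γ ∈ m.asIdeal :=
          (Finset.inf_le (f := PrimeSpectrum.asIdeal)
            (Finset.mem_filter.2 ⟨hP'.mem_toFinset.2 hm.prop, hm, hg⟩) : _ ≤ m.asIdeal) hγB
        exact hg (m.isPrime.mem_of_pow_mem k ((Ideal.add_mem_iff_left _ hγm).1 hmem'))
    rcases A.eq_empty_or_nonempty with hA | ⟨a₀, ha₀⟩
    · exact ⟨0, Ideal.zero_mem _, by simp [hA]⟩
    have hnle : ¬ ((B.inf PrimeSpectrum.asIdeal : Ideal Γ(X, V)) : Set Γ(X, V)) ⊆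
        ⋃ a ∈ (A : Set (PrimeSpectrum Γ(X, V))), (a.asIdeal : Set Γ(X, V)) := by
      rw [Ideal.subset_union_prime a₀ a₀ fun a _ _ _ => a.isPrime]
      rintro ⟨a, ha, hle⟩
      obtain ⟨b, hb, hba⟩ := (Ideal.IsPrime.inf_le' a.isPrime).1 hle
      obtain ⟨-, hamax, hga⟩ := Finset.mem_filter.1 ha
      obtain ⟨-, hbmax, hgb⟩ := Finset.mem_filter.1 hb
      exact hgb (hbmax.le_of_ge hamax.prop hba hga)
    obtain ⟨γ, hγB, hγA⟩ := Set.not_subset.1 hnle
    exact ⟨γ, hγB, fun a ha h => hγA (Set.mem_biUnion ha h)⟩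
  -- per point
  have key : ∀ y : T, ∃ M, 0 < M ∧ ∃ (N : X.Opens) (hN : N ≤ U y) (a : Γ(X, N)) (_ : IsAffineOpen N),
      y.1 ∈ N ∧ (X.basicOpen a : Set X) = (N : Set X) ∩ V ∧
      res (inf_le_right : N ⊓ V ≤ V) g₀ ^ M * res (inf_le_left : N ⊓ V ≤ N) a = 1 := by
    intro y
    obtain ⟨M, hM, a, ha, s, hs, s', hs', heq⟩ := (Br y).inv (res (hfV y) g₀) fun i => hg₀ ⟨y, i⟩
    let N : X.Opens := X.basicOpen (s * s')
    have hNU : N ≤ U y := X.basicOpen_le _
    have hyN : y.1 ∈ N := by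
      have h1 : (hU y).primeIdealOf ⟨y.1, hxU y⟩ ∈ PrimeSpectrum.basicOpen (s * s') :=
        fun h => (((hU y).primeIdealOf ⟨y.1, hxU y⟩).isPrime.mem_or_mem h).elim hs hs'
      rw [← (hU y).fromSpec_preimage_basicOpen, Scheme.Hom.mem_preimage, (hU y).fromSpec_primeIdealOf] at h1
      exact h1
    have hu2 : IsUnit (res hNU s * res hNU s') := by
      rw [← map_mul]; exact RingedSpace.isUnit_res_basicOpen X.toRingedSpace (s * s')
    obtain ⟨si, hsi⟩ := (isUnit_of_mul_isUnit_left hu2).exists_left_inv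
    let qN : Γ(X, N) := res hNU a * si
    have hNV : N ⊓ V ≤ X.basicOpen (f y) := fun z hz => by
      show z ∈ (X.basicOpen (f y) : Set X)
      rw [hbas]
      exact ⟨hNU hz.1, hz.2⟩
    have hmain : res (inf_le_right : N ⊓ V ≤ V) g₀ ^ M * res (inf_le_left : N ⊓ V ≤ N) qN = 1 := by
      have h3 := congrArg (res hNV) heq
      change res hNV (res (X.basicOpen_le (f y)) s' * (res (hfV y) g₀ ^ M * res (X.basicOpen_le (f y)) a -
        res (X.basicOpen_le (f y)) s)) = res hNV 0 at h3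
      simp only [map_mul, map_sub, map_pow, map_zero, Ample.res_res] at h3
      have hu' : IsUnit (res (inf_le_left.trans hNU : N ⊓ V ≤ U y) s') := by
        rw [← Ample.res_res hNU (inf_le_left : N ⊓ V ≤ N)]
        exact (isUnit_of_mul_isUnit_right hu2).map _
      rw [hu'.mul_right_eq_zero, sub_eq_zero] at h3
      simp only [qN, map_mul, Ample.res_res]
      rw [← mul_assoc, h3, ← Ample.res_res hNU (inf_le_left : N ⊓ V ≤ N), ← map_mul, mul_comm, hsi, map_one]
    refine ⟨M, hM, N, hNU, qN, (hU y).basicOpen _, hyN, Set.Subset.antisymm ?_ ?_, hmain⟩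
    · intro z hz
      refine ⟨X.basicOpen_le qN hz, by_contra fun hzV => ?_⟩
      have hzy : y.1 ⤳ z :=
        specializes_iff_mem_closure.2 (hsub y ⟨hNU (X.basicOpen_le qN hz), hzV⟩)
      have h1 : y.1 ∈ X.basicOpen (res hNU a) := by
        have hy' : y.1 ∈ X.basicOpen qN := hzy.mem_open (X.basicOpen qN).2 hz
        rw [show qN = res hNU a * si from rfl, Scheme.basicOpen_mul] at hy'
        exact hy'.1
      rw [show res hNU a = X.presheaf.map (homOfLE hNU).op a from rfl, Scheme.basicOpen_res] at h1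
      have h2 : (hU y).primeIdealOf ⟨y.1, hxU y⟩ ∈ (hU y).fromSpec ⁻¹ᵁ X.basicOpen a := by
        rw [Scheme.Hom.mem_preimage, (hU y).fromSpec_primeIdealOf]; exact h1.2
      rw [(hU y).fromSpec_preimage_basicOpen] at h2
      exact h2 ha
    · rintro z ⟨hzN, hzV⟩
      have hu : IsUnit (res (inf_le_left : N ⊓ V ≤ N) qN) := IsUnit.of_mul_eq_one _ ((mul_comm _ _).trans hmain)
      have h3 := Scheme.basicOpen_of_isUnit X hu
      rw [show res (inf_le_left : N ⊓ V ≤ N) qN = X.presheaf.map (homOfLE inf_le_left).op qN from rfl,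
        Scheme.basicOpen_res] at h3
      exact (h3.ge ⟨hzN, hzV⟩).2
  choose M hM N hNU a hNaff hyN haN hga using key
  haveI := Fintype.ofFinite T
  -- a common power clearing the denominators of `γ`
  have hden : ∀ y : T, ∃ (m : ℕ) (c : Γ(X, N y)),
      res (inf_le_right : N y ⊓ V ≤ V) γ * res (inf_le_left : N y ⊓ V ≤ N y) (a y) ^ m =
        res (inf_le_left : N y ⊓ V ≤ N y) c := by
    intro y
    haveI := (hNaff y).isLocalization_basicOpen (a y)
    have hle : X.basicOpen (a y) ≤ V := fun z hz => ((haN y).le hz).2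
    have hle' : N y ⊓ V ≤ X.basicOpen (a y) := fun z hz => (haN y).ge hz
    obtain ⟨m, c, hc⟩ := IsLocalization.Away.surj (S := Γ(X, X.basicOpen (a y))) (a y) (res hle γ)
    change res hle γ * res (X.basicOpen_le (a y)) (a y) ^ m = res (X.basicOpen_le (a y)) c at hc
    refine ⟨m, c, ?_⟩
    have h := congrArg (res hle') hc
    simpa only [map_mul, map_pow, Ample.res_res] using h
  choose m c hc using hden
  let Mtot : ℕ := ∏ y, M y
  let k : ℕ := Finset.univ.sup m + 1
  refine ⟨g₀ ^ (Mtot * k) + γ, fun z hz => ?_, fun y hy => ?_⟩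
  · exact (hmemV _ ⟨z, hPV hz⟩).2
      (hγ (Mtot * k) (Nat.mul_pos (Finset.prod_pos fun y _ => hM y) (Nat.succ_pos _)) _
        ⟨⟨z, hPV hz⟩, hz, rfl⟩)
  obtain ⟨e, he⟩ := Finset.dvd_prod_of_mem M (Finset.mem_univ (⟨y, hy⟩ : T))
  set Y : T := ⟨y, hy⟩
  set gN := res (inf_le_right : N Y ⊓ V ≤ V) g₀ with hgN
  set aN := res (inf_le_left : N Y ⊓ V ≤ N Y) (a Y) with haN'
  have hepos : 0 < e := by
    rcases Nat.eq_zero_or_pos e with h | h
    · have : 0 < Mtot := Finset.prod_pos fun y _ => hM y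
      rw [show Mtot = M Y * e from he, h, mul_zero] at this
      exact absurd this (lt_irrefl 0)
    · exact h
  have hpow : ∀ j, gN ^ (M Y * j) * aN ^ j = 1 := fun j => by
    rw [pow_mul, ← mul_pow, hga Y, one_pow]
  have hmle : m Y + 1 ≤ e * k := by
    have h1 : m Y ≤ Finset.univ.sup m := Finset.le_sup (Finset.mem_univ Y)
    calc m Y + 1 ≤ k := Nat.succ_le_succ h1
      _ ≤ e * k := Nat.le_mul_of_pos_left _ hepos
  obtain ⟨d, hd⟩ := Nat.le.dest hmle
  let w : Γ(X, N Y) := 1 + a Y * (c Y * a Y ^ d)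
  let N' : X.Opens := X.basicOpen w
  have hN'N : N' ≤ N Y := X.basicOpen_le w
  have huw : IsUnit (res hN'N w) := RingedSpace.isUnit_res_basicOpen X.toRingedSpace w
  obtain ⟨wi, hwi⟩ := huw.exists_left_inv
  have hyN' : y ∈ N' := by
    show y ∈ X.basicOpen w
    rw [Scheme.mem_basicOpen _ _ _ (hyN Y)]
    have hna : ¬ IsUnit (X.presheaf.germ (N Y) y (hyN Y) (a Y)) := fun hu => by
      have h := ((Scheme.mem_basicOpen _ _ _ (hyN Y)).2 hu : y ∈ X.basicOpen (a Y))
      rw [← SetLike.mem_coe, haN Y] at h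
      exact hTV y hy h.2
    rw [map_add, map_one, map_mul, add_comm]
    by_contra hu
    have h1 : X.presheaf.germ (N Y) y (hyN Y) (a Y) * X.presheaf.germ (N Y) y (hyN Y) (c Y * a Y ^ d) + 1 ∈
        IsLocalRing.maximalIdeal _ := hu
    have h2 := Ideal.mul_mem_right (X.presheaf.germ (N Y) y (hyN Y) (c Y * a Y ^ d)) _
      ((IsLocalRing.mem_maximalIdeal _).2 hna)
    exact (IsLocalRing.maximalIdeal.isMaximal _).ne_top
      ((Ideal.eq_top_iff_one _).2 ((Ideal.add_mem_iff_right _ h2).1 h1))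
  let q : Γ(X, N') := res hN'N (a Y ^ (e * k)) * wi
  have hsubN : N' ≤ U Y := hN'N.trans (hNU Y)
  refine ⟨N', q, hyN', fun z hz => hsub Y ⟨hsubN hz.1, hz.2⟩, fun z hzT hzN => ?_, ?_, ?_⟩
  · by_contra hne
    exact hUO Y (hsubN hzN) (Set.mem_biUnion ⟨hzT, hne⟩ (subset_closure rfl))
  · have hwu : IsUnit wi := IsUnit.of_mul_eq_one _ hwi
    show (X.basicOpen (res hN'N (a Y ^ (e * k)) * wi) : Set X) = _
    rw [Scheme.basicOpen_mul, Scheme.basicOpen_of_isUnit X hwu,
      show res hN'N (a Y ^ (e * k)) = X.presheaf.map (homOfLE hN'N).op (a Y ^ (e * k)) from rfl,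
      Scheme.basicOpen_res, Scheme.basicOpen_pow _ _ (show 0 < e * k by omega)]
    ext z
    simp only [Opens.coe_inf, Set.mem_inter_iff, SetLike.mem_coe]
    refine ⟨fun h => ⟨h.2, ((haN Y).le h.1.2).2⟩, fun h => ⟨⟨h.1, (haN Y).ge ⟨hN'N h.1, h.2⟩⟩, h.1⟩⟩
  · have hle : N' ⊓ V ≤ N Y ⊓ V := inf_le_inf_right _ hN'N
    have key2 : (gN ^ (Mtot * k) + res (inf_le_right : N Y ⊓ V ≤ V) γ) * aN ^ (e * k) =
        res (inf_le_left : N Y ⊓ V ≤ N Y) w := by
      rw [add_mul, show Mtot * k = M Y * (e * k) by rw [show Mtot = M Y * e from he, mul_assoc], hpow,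
        show e * k = m Y + (d + 1) by omega, pow_add, ← mul_assoc, hc Y]
      simp only [w, haN', map_add, map_one, map_mul, map_pow, pow_succ]
      ring
    have h2 := congrArg (res hle) key2
    simp only [gN, aN, map_mul, map_add, map_pow, Ample.res_res] at h2
    simp only [q, map_mul, map_add, map_pow, Ample.res_res]
    rw [← mul_assoc, h2]
    rw [← Ample.res_res hN'N (inf_le_left : N' ⊓ V ≤ N'), ← map_mul, mul_comm, hwi, map_one]

end GrothLib.FinAff13
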