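import Groth.Agent.Lib.FinAff13.Poles
import Groth.Agent.Lib.CMMor6.Open
import Groth.Agent.Lib.GrpdQuot.Invariant
import Mathlib.AlgebraicGeometry.QuasiAffine

/-!
# Finite sets of points of height at most one lie in affine opens

On a separated locally Noetherian scheme every finite set of points whose local rings have dimension
at most one is contained in an affine open.
-/

set_option autoImplicit false
set_option linter.style.haveILetI false
set_option backward.isDefEq.respectTransparency false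
set_option maxHeartbeats 800000

universe u

open CategoryTheory CategoryTheory.Limits AlgebraicGeometry TopologicalSpace Opposite
open GrothLib.Ample (res)

noncomputable section

namespace GrothLib.FinAff13

section Noetherian

variable {X : Scheme.{u}} [IsNoetherian X]

/-- One side: an open on which the complement of `V` is cut out by one function. -/
theorem exists_side [X.IsSeparated] {V : X.Opens} (hV : IsAffineOpen V)
    (hG : genericPoints (X : Type u) ⊆ V) {F : Set X} (hF : F.Finite)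
    (hdim : ∀ y ∈ F, ringKrullDim (X.presheaf.stalk y) ≤ 1) :
    ∃ (D : X.Opens) (h : Γ(X, D)), F ⊆ D ∧ X.basicOpen h = D ⊓ V := by
  classical
  obtain ⟨g, hPg, hT⟩ := exists_pole_fun hG hV (T := F \ V) (hF.subset Set.sdiff_subset) (fun y hy => hy.2)
    (fun y hy => hdim y hy.1) (P := F ∩ V) (hF.subset Set.inter_subset_left) Set.inter_subset_right
  choose N q hyN hNcl hNT hq hgq using hT
  let T : Set X := F \ (V : Set X)
  let A : X.Opens := X.basicOpen g
  obtain ⟨gi, hgi⟩ : ∃ gi : Γ(X, A), gi * res (X.basicOpen_le g) g = 1 := by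
    have hu : IsUnit (res (X.basicOpen_le g) g) := RingedSpace.isUnit_res_basicOpen X.toRingedSpace g
    exact hu.exists_left_inv
  let W : Option T → X.Opens := fun o => o.elim A fun y => N y.1 y.2
  let sf : ∀ o : Option T, Γ(X, W o) := fun o =>
    Option.rec (motive := fun o => Γ(X, (o.elim A fun y => N y.1 y.2 : X.Opens))) gi (fun y => q y.1 y.2) o
  have hAV : A ≤ V := X.basicOpen_le g
  have hNA : ∀ y : T, N y.1 y.2 ⊓ V ≤ A := fun y => by
    have hu : IsUnit (res (inf_le_right : N y.1 y.2 ⊓ V ≤ V) g) := IsUnit.of_mul_eq_one _ (hgq y.1 y.2)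
    have h3 := Scheme.basicOpen_of_isUnit X hu
    rw [show res (inf_le_right : N y.1 y.2 ⊓ V ≤ V) g = X.presheaf.map (homOfLE inf_le_right).op g from rfl,
      Scheme.basicOpen_res] at h3
    exact h3.ge.trans inf_le_right
  -- on `V` every member of the family is the inverse of `g`
  have hkey : ∀ (o : Option T) {Z : X.Opens} (hZ : Z ≤ W o) (hZV : Z ≤ V),
      res hZ (sf o) * res hZV g = 1 := by
    rintro (_ | y) Z hZ hZV
    · have hZA : Z ≤ A := hZ
      have h := congrArg (res hZA) hgi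
      rw [map_mul, map_one, Ample.res_res] at h
      exact h
    · show res hZ (q y.1 y.2) * res hZV g = 1
      have h := congrArg (res (le_inf hZ hZV : Z ≤ N y.1 y.2 ⊓ V)) (hgq y.1 y.2)
      rw [map_mul, map_one, Ample.res_res, Ample.res_res] at h
      rw [mul_comm]
      exact h
  have hover : ∀ o o' : Option T, o ≠ o' → W o ⊓ W o' ≤ V := by
    rintro (_ | y) (_ | y') hne z ⟨h1, h2⟩
    · exact absurd rfl hne
    · exact hAV h1
    · exact hAV h2
    · by_contra hzV
      have c1 : y.1 ⤳ z := specializes_iff_mem_closure.2 (hNcl y.1 y.2 ⟨h1, hzV⟩)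
      exact hne (congrArg some (Subtype.ext
        (hNT y'.1 y'.2 y.1 y.2 (c1.mem_open (N y'.1 y'.2).2 h2))))
  have hcompat : TopCat.Presheaf.IsCompatible X.sheaf.1 W sf := by
    intro o o'
    by_cases hoo : o = o'
    · subst hoo
      rfl
    · have hV' := hover o o' hoo
      show res (inf_le_left : W o ⊓ W o' ≤ W o) (sf o) = res (inf_le_right : W o ⊓ W o' ≤ W o') (sf o')
      calc res (inf_le_left : W o ⊓ W o' ≤ W o) (sf o)
          = res inf_le_left (sf o) * (res inf_le_right (sf o') * res hV' g) := by rw [hkey o' _ hV', mul_one]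
        _ = res inf_le_right (sf o') * (res inf_le_left (sf o) * res hV' g) := by ring
        _ = res inf_le_right (sf o') := by rw [hkey o _ hV', mul_one]
  obtain ⟨h, hh, -⟩ := X.sheaf.existsUnique_gluing' W (⨆ o, W o) (fun o => homOfLE (le_iSup W o)) le_rfl sf hcompat
  refine ⟨⨆ o, W o, h, fun y hy => ?_, ?_⟩
  · by_cases hyV : y ∈ (V : Set X)
    · exact Opens.mem_iSup.2 ⟨none, hPg ⟨hy, hyV⟩⟩
    · exact Opens.mem_iSup.2 ⟨some ⟨y, hy, hyV⟩, hyN y ⟨hy, hyV⟩⟩
  · have hbo : ∀ o, X.basicOpen (sf o) = W o ⊓ V := by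
      rintro (_ | y)
      · show X.basicOpen gi = A ⊓ V
        rw [Scheme.basicOpen_of_isUnit X (IsUnit.of_mul_eq_one _ hgi), inf_eq_left.2 hAV]
      · exact Opens.ext (hq y.1 y.2)
    ext z
    constructor
    · intro hz
      obtain ⟨o, ho⟩ := Opens.mem_iSup.1 (X.basicOpen_le h hz)
      have : z ∈ X.basicOpen (sf o) := by
        rw [← hh o]
        show z ∈ X.basicOpen (X.presheaf.map (homOfLE (le_iSup W o)).op h)
        rw [Scheme.basicOpen_res]
        exact ⟨ho, hz⟩
      rw [hbo] at this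
      exact ⟨X.basicOpen_le h hz, this.2⟩
    · rintro ⟨hz, hzV⟩
      obtain ⟨o, ho⟩ := Opens.mem_iSup.1 hz
      have : z ∈ X.basicOpen (sf o) := by rw [hbo]; exact ⟨ho, hzV⟩
      rw [← hh o] at this
      have h' : z ∈ X.basicOpen (X.presheaf.map (homOfLE (le_iSup W o)).op h) := this
      rw [Scheme.basicOpen_res] at h'
      exact h'.2

/-- An open covered by two affine opens, each the non-vanishing locus of a function, is quasi-affine. -/
theorem isQuasiAffine_of_pair {W V U : X.Opens} (hV : IsAffineOpen V) (hU : IsAffineOpen U)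
    (hle : W ≤ V ⊔ U) {h : Γ(X, W)} (hh : X.basicOpen h = W ⊓ V) {e : Γ(X, W)}
    (he : X.basicOpen e = W ⊓ U) : Scheme.IsQuasiAffine (W : Scheme.{u}) := by
  have hc : IsCompact (W : Set X) := NoetherianSpace.isCompact _
  haveI : CompactSpace (W : Scheme.{u}) := isCompact_iff_compactSpace.1 hc
  haveI : IsNoetherian (W : Scheme.{u}) := {}
  -- work on `W`
  have main : ∀ (A : X.Opens) (_ : IsAffineOpen A) (k : Γ((W : Scheme.{u}), ⊤)),
      (W : Scheme.{u}).basicOpen k = W.ι ⁻¹ᵁ A → ∀ x : (W : Scheme.{u}), W.ι x ∈ A →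
      ∃ r : Γ((W : Scheme.{u}), ⊤), IsAffineOpen ((W : Scheme.{u}).basicOpen r) ∧
        x ∈ (W : Scheme.{u}).basicOpen r := by
    intro A hA k hk x hx
    obtain ⟨a, haW, hxa⟩ := hA.exists_basicOpen_le (V := W) ⟨W.ι x, x.2⟩ hx
    let a' : Γ((W : Scheme.{u}), (W : Scheme.{u}).basicOpen k) :=
      W.ι.appLE A _ (hk.le) a
    haveI := isLocalization_basicOpen_of_qcqs (X := (W : Scheme.{u})) isCompact_univ isQuasiSeparated_univ k
    obtain ⟨n, b, hb⟩ := IsLocalization.Away.surj k a'
    have hub : (W : Scheme.{u}).basicOpen (b * k) = W.ι ⁻¹ᵁ X.basicOpen a := by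
      rw [Scheme.basicOpen_mul]
      have h1 : (W : Scheme.{u}).basicOpen a' = W.ι ⁻¹ᵁ X.basicOpen a := by
        show (W : Scheme.{u}).basicOpen (((W : Scheme.{u}).presheaf.map (homOfLE hk.le).op) (W.ι.app A a)) = _
        rw [Scheme.basicOpen_res, ← Scheme.preimage_basicOpen, inf_eq_right]
        exact (W.ι.preimage_mono (X.basicOpen_le a)).trans hk.ge
      have hu : IsUnit (((W : Scheme.{u}).presheaf.map (homOfLE ((W : Scheme.{u}).basicOpen_le k)).op) k) :=
        RingedSpace.isUnit_res_basicOpen (W : Scheme.{u}).toRingedSpace k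
      have h2 := congrArg (W : Scheme.{u}).basicOpen hb
      change (W : Scheme.{u}).basicOpen (a' * _) =
        (W : Scheme.{u}).basicOpen (((W : Scheme.{u}).presheaf.map
          (homOfLE ((W : Scheme.{u}).basicOpen_le k)).op) b) at h2
      rw [Scheme.basicOpen_mul, Scheme.basicOpen_res, h1] at h2
      rw [inf_comm, ← h2]
      have h3 := Scheme.basicOpen_of_isUnit (W : Scheme.{u}) (hu.pow n)
      exact (congrArg (_ ⊓ ·) h3).trans (inf_eq_left.2 (by
        rw [hk]; exact W.ι.preimage_mono (X.basicOpen_le a)))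
    refine ⟨b * k, ?_, ?_⟩
    · rw [hub]
      exact (hA.basicOpen a).preimage_of_isOpenImmersion W.ι (by rw [Scheme.Opens.opensRange_ι]; exact haW)
    · rw [hub]
      exact hxa
  refine Scheme.IsQuasiAffine.of_forall_exists_mem_basicOpen _ fun x => ?_
  have hW : (⊤ : (W : Scheme.{u}).Opens) ≤ W.ι ⁻¹ᵁ W := fun y _ => y.2
  have hbo : ∀ (k : Γ(X, W)) (A : X.Opens), X.basicOpen k = W ⊓ A →
      (W : Scheme.{u}).basicOpen (W.ι.appLE W ⊤ hW k) = W.ι ⁻¹ᵁ A := fun k A hk => by
    show (W : Scheme.{u}).basicOpen (((W : Scheme.{u}).presheaf.map (homOfLE hW).op) (W.ι.app W k)) = _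
    rw [Scheme.basicOpen_res, ← Scheme.preimage_basicOpen, top_inf_eq, hk]
    exact le_antisymm (fun y hy => hy.2) (fun y hy => ⟨y.2, hy⟩)
  rcases hle x.2 with hx | hx
  · exact main V hV _ (hbo h V hh) x hx
  · exact main U hU _ (hbo e U he) x hx

theorem exists_affine_of_quasiAffine {W : X.Opens} [Scheme.IsQuasiAffine (W : Scheme.{u})] {F : Set X}
    (hF : F.Finite) (hne : F.Nonempty) (hFW : F ⊆ W) : ∃ A : X.Opens, IsAffineOpen A ∧ F ⊆ A := by
  let τ := (W : Scheme.{u}).toSpecΓ
  let F' : Set (W : Scheme.{u}) := W.ι ⁻¹' F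
  obtain ⟨x, hx⟩ := hne
  haveI : Nonempty (Spec Γ((W : Scheme.{u}), ⊤)) := ⟨τ ⟨x, hFW hx⟩⟩
  obtain ⟨f, hf, hFf⟩ := GrpdQuot.exists_basicOpen_le_of_finite τ.opensRange
    ((hF.preimage W.ι.isOpenEmbedding.injective.injOn).image τ) (fun _ ⟨y, _, hy⟩ => ⟨y, hy⟩)
  refine ⟨W.ι ''ᵁ (τ ⁻¹ᵁ (Spec Γ((W : Scheme.{u}), ⊤)).basicOpen f),
    (((isAffineOpen_top (Spec Γ((W : Scheme.{u}), ⊤))).basicOpen f).preimage_of_isOpenImmersion τ
      hf).image_of_isOpenImmersion W.ι, fun y hy => ?_⟩
  exact ⟨⟨y, hFW hy⟩, hFf ⟨⟨y, hFW hy⟩, hy, rfl⟩, rfl⟩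

theorem exists_affine_containing [X.IsSeparated] (s : Finset X)
    (hs : ∀ y ∈ s, ringKrullDim (X.presheaf.stalk y) ≤ 1) :
    ∃ V : X.Opens, IsAffineOpen V ∧ (↑s ⊆ (V : Set X)) ∧ genericPoints (X : Type u) ⊆ V := by
  classical
  induction s using Finset.induction with
  | empty =>
    obtain ⟨V, hV, hG⟩ := Euler.exists_affine_containing_genericPoints (X := X)
    exact ⟨V, hV, by simp, hG⟩
  | insert x t hxt ih =>
    obtain ⟨V, hV, htV, hGV⟩ := ih fun y hy => hs y (Finset.mem_insert_of_mem hy)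
    obtain ⟨U, hU, hxU, hGU⟩ := AmpleDimOne.exists_affine_nbhd x
    let F : Set X := ↑(insert x t) ∪ genericPoints (X : Type u)
    have hF : F.Finite := (Finset.finite_toSet _).union
      (genericPoints.finite NoetherianSpace.finite_irreducibleComponents)
    have hdim : ∀ y ∈ F, ringKrullDim (X.presheaf.stalk y) ≤ 1 := by
      rintro y (hy | hy)
      · exact hs y hy
      · exact (GrothLib.CMMor6.ringKrullDim_stalk_le_zero y (mem_genericPoints_iff.1 hy)).trans zero_le_one
    have hne : F.Nonempty := ⟨x, Or.inl (Finset.mem_insert_self x t)⟩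
    obtain ⟨D, h, hFD, hh⟩ := exists_side hV hGV hF hdim
    obtain ⟨E, e, hFE, he⟩ := exists_side hU hGU hF hdim
    let W : X.Opens := D ⊓ E ⊓ (V ⊔ U)
    have hFW : F ⊆ W := fun y hy => ⟨⟨hFD hy, hFE hy⟩, by
      rcases hy with hy | hy
      · rcases Finset.mem_insert.1 hy with rfl | hy
        · exact Or.inr hxU
        · exact Or.inl (htV hy)
      · exact Or.inl (hGV hy)⟩
    have hWD : W ≤ D := fun y hy => hy.1.1
    have hWE : W ≤ E := fun y hy => hy.1.2
    haveI : Scheme.IsQuasiAffine (W : Scheme.{u}) :=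
      isQuasiAffine_of_pair (h := res hWD h) (e := res hWE e) hV hU inf_le_right
        (by rw [show res hWD h = X.presheaf.map (homOfLE hWD).op h from rfl, Scheme.basicOpen_res, hh,
          ← inf_assoc, inf_eq_left.2 hWD])
        (by rw [show res hWE e = X.presheaf.map (homOfLE hWE).op e from rfl, Scheme.basicOpen_res, he,
          ← inf_assoc, inf_eq_left.2 hWE])
    obtain ⟨A, hA, hFA⟩ := exists_affine_of_quasiAffine hF hne hFW
    exact ⟨A, hA, fun y hy => hFA (Or.inl hy), fun y hy => hFA (Or.inr hy)⟩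

end Noetherian

/-- A finite set of points of height at most one of a separated locally Noetherian scheme lies in an
affine open. -/
theorem exists_affine_of_finite {X : Scheme.{u}} [X.IsSeparated] [IsLocallyNoetherian X] {F : Set X} (hF : F.Finite)
    (hdim : ∀ y ∈ F, ringKrullDim (X.presheaf.stalk y) ≤ 1) :
    ∃ V : X.Opens, IsAffineOpen V ∧ F ⊆ V := by
  classical
  choose A hA hyA _ using fun y : X => exists_isAffineOpen_mem_and_subset (x := y) (U := ⊤) trivial
  let X' : X.Opens := ⨆ y ∈ hF.toFinset, A y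
  have hc : IsCompact (X' : Set X) := by
    simp only [X', Opens.coe_iSup]
    exact hF.toFinset.finite_toSet.isCompact_biUnion fun y _ => (hA y).isCompact
  haveI : CompactSpace (X' : Scheme.{u}) := isCompact_iff_compactSpace.1 hc
  haveI : IsNoetherian (X' : Scheme.{u}) := {}
  haveI : (X' : Scheme.{u}).IsSeparated := ⟨by rw [← terminal.comp_from X'.ι]; infer_instance⟩
  have hFX : ∀ y ∈ F, y ∈ X' := fun y hy =>
    Opens.mem_iSup.2 ⟨y, Opens.mem_iSup.2 ⟨hF.mem_toFinset.2 hy, hyA y⟩⟩
  obtain ⟨V, hV, hsV, -⟩ := exists_affine_containing (X := (X' : Scheme.{u}))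
    (hF.preimage X'.ι.isOpenEmbedding.injective.injOn).toFinset fun y hy => by
      have hy' : y ∈ ⇑X'.ι ⁻¹' F := (Set.Finite.mem_toFinset _).1 hy
      have h := hdim (X'.ι y) hy'
      exact (ringKrullDim_eq_of_ringEquiv (X'.stalkIso y).symm.commRingCatIsoToRingEquiv).ge.trans h
  refine ⟨X'.ι ''ᵁ V, hV.image_of_isOpenImmersion X'.ι, fun y hy => ?_⟩
  exact ⟨⟨y, hFX y hy⟩, hsV ((Set.Finite.mem_toFinset _).2 hy), rfl⟩

end GrothLib.FinAff13
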